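import Mathlib
import Cfsg.Agent.Lib.Helper15.D11Defs

/-!
# S0679, piece T: cycle types of elements of prime order in a group of degree 11 without small
prime cycles (helper15)
-/

set_option autoImplicit false

namespace Cfsg.Agent.Helper15.D11

open Equiv Equiv.Perm MulAction

variable {α : Type*} [Fintype α] [DecidableEq α]

namespace T

/-- An element of prime order `p` on 11 points has cycle type `replicate k p` with `1 ≤ k`,
`k * p ≤ 11`. -/
theorem exists_replicate (hα : Fintype.card α = 11) {g : Perm α} {p : ℕ} (hp : p.Prime)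
    (hg : orderOf g = p) :
    ∃ k : ℕ, 1 ≤ k ∧ k * p ≤ 11 ∧ g.cycleType = Multiset.replicate k p := by
  obtain ⟨n, hn⟩ := Equiv.Perm.cycleType_prime_order (σ := g) (by rw [hg]; exact hp)
  rw [hg] at hn
  refine ⟨n + 1, by omega, ?_, hn⟩
  have h1 : g.cycleType.sum = g.support.card := Equiv.Perm.sum_cycleType g
  rw [hn, Multiset.sum_replicate, smul_eq_mul] at h1
  have h2 : g.support.card ≤ Fintype.card α := Finset.card_le_univ _
  omega

/-- `replicate 1 p` is excluded by `NoSmallCycle` for `p ≤ 8`. -/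
theorem ne_replicate_one (hα : Fintype.card α = 11) {K : Subgroup (Perm α)}
    (hK : NoSmallCycle K) {g : Perm α} (hgK : g ∈ K) {p : ℕ} (hp : p.Prime) (hp8 : p ≤ 8) :
    g.cycleType ≠ Multiset.replicate 1 p := by
  intro h
  have hc : g.IsCycle := by
    rw [← Equiv.Perm.card_cycleType_eq_one, h]
    simp
  have hs : g.support.card = p := by
    rw [← Equiv.Perm.sum_cycleType, h]
    simp
  exact hK g hgK p hp (by omega) hc hs

end T

theorem cycleType_of_orderOf_eleven (hα : Fintype.card α = 11) {g : Perm α}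
    (hg : orderOf g = 11) : g.cycleType = {11} := by
  obtain ⟨k, hk1, hk2, hk⟩ := T.exists_replicate hα (by norm_num) hg
  have : k = 1 := by omega
  subst this
  rw [hk]
  rfl

theorem orderOf_ne_seven (hα : Fintype.card α = 11) {K : Subgroup (Perm α)}
    (hK : NoSmallCycle K) {g : Perm α} (hgK : g ∈ K) : orderOf g ≠ 7 := by
  intro hg
  obtain ⟨k, hk1, hk2, hk⟩ := T.exists_replicate hα (by norm_num) hg
  have : k = 1 := by omega
  subst this
  exact T.ne_replicate_one hα hK hgK (by norm_num) (by norm_num) hk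

theorem cycleType_of_orderOf_five (hα : Fintype.card α = 11) {K : Subgroup (Perm α)}
    (hK : NoSmallCycle K) {g : Perm α} (hgK : g ∈ K) (hg : orderOf g = 5) :
    g.cycleType = {5, 5} := by
  obtain ⟨k, hk1, hk2, hk⟩ := T.exists_replicate hα (by norm_num) hg
  have : k = 1 ∨ k = 2 := by omega
  rcases this with rfl | rfl
  · exact (T.ne_replicate_one hα hK hgK (by norm_num) (by norm_num) hk).elim
  · rw [hk]; rfl

theorem cycleType_of_orderOf_three (hα : Fintype.card α = 11) {K : Subgroup (Perm α)}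
    (hK : NoSmallCycle K) {g : Perm α} (hgK : g ∈ K) (hg : orderOf g = 3) :
    g.cycleType = {3, 3} ∨ g.cycleType = {3, 3, 3} := by
  obtain ⟨k, hk1, hk2, hk⟩ := T.exists_replicate hα (by norm_num) hg
  have : k = 1 ∨ k = 2 ∨ k = 3 := by omega
  rcases this with rfl | rfl | rfl
  · exact (T.ne_replicate_one hα hK hgK (by norm_num) (by norm_num) hk).elim
  · left; rw [hk]; rfl
  · right; rw [hk]; rfl

theorem cycleType_of_orderOf_two (hα : Fintype.card α = 11) {K : Subgroup (Perm α)}
    (hK : NoSmallCycle K) {g : Perm α} (hgK : g ∈ K) (hg : orderOf g = 2) :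
    (sign g = 1 → g.cycleType = {2, 2} ∨ g.cycleType = {2, 2, 2, 2}) ∧
    (sign g = -1 → g.cycleType = {2, 2, 2} ∨ g.cycleType = {2, 2, 2, 2, 2}) := by
  obtain ⟨k, hk1, hk2, hk⟩ := T.exists_replicate hα (by norm_num) hg
  have hsign : sign g = (-1 : ℤˣ) ^ (3 * k) := by
    rw [Equiv.Perm.sign_of_cycleType, hk, Multiset.sum_replicate, Multiset.card_replicate,
      smul_eq_mul]
    congr 1
    ring
  have : k = 1 ∨ k = 2 ∨ k = 3 ∨ k = 4 ∨ k = 5 := by omega
  rcases this with rfl | rfl | rfl | rfl | rfl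
  · exact (T.ne_replicate_one hα hK hgK (by norm_num) (by norm_num) hk).elim
  · refine ⟨fun _ => Or.inl (by rw [hk]; rfl), fun h => ?_⟩
    rw [hsign] at h; exact absurd h (by decide)
  · refine ⟨fun h => ?_, fun _ => Or.inl (by rw [hk]; rfl)⟩
    rw [hsign] at h; exact absurd h (by decide)
  · refine ⟨fun _ => Or.inr (by rw [hk]; rfl), fun h => ?_⟩
    rw [hsign] at h; exact absurd h (by decide)
  · refine ⟨fun h => ?_, fun _ => Or.inr (by rw [hk]; rfl)⟩
    rw [hsign] at h; exact absurd h (by decide)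

end Cfsg.Agent.Helper15.D11
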